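import Groth.Agent.EGA43.K125.LocalDims
import Groth.Agent.EGA43.K125.ValScheme
import Groth.Agent.CycA.TensorTrdeg

/-!
# Closures of images of universally open families inside fibres

* `rtd_snd_le`: residual transcendence degrees do not increase under base change;
* `mem_closure_pullback`: closures in fibres of preimages under a base change;
* `topologicalKrullDim_closed_fiber`: dimension of `C ∩ f ⁻¹ {y}` for `C` closed.
-/

set_option autoImplicit false
universe u

open CategoryTheory AlgebraicGeometry Limits Topology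
open AlgebraicGeometry.Scheme.Pullback

namespace K974.ClosureFib

open Groth.Agent.CycB.RelDim Groth.Agent Groth.Agent.CycB Groth.Agent.CycB.TrdegAlg IsLocalRing

section rtd

variable {X Y S : Scheme.{u}} {f : X ⟶ S} {g : Y ⟶ S}

/-- Residual transcendence degrees do not increase under base change. -/
theorem rtd_snd_le (t : ↥(pullback f g)) :
    rtd (pullback.snd f g) t ≤ rtd f (pullback.fst f g t) := by
  have hfrac := fracGen_ofPointTensor t
  set T := Triplet.ofPoint t with hT
  let φ₁ := (S.residueFieldCongr T.hx).inv ≫ f.residueFieldMap T.x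
  let φ₂ := (S.residueFieldCongr T.hy).inv ≫ g.residueFieldMap T.y
  have hpo : CategoryTheory.IsPushout φ₁ φ₂ T.tensorInl T.tensorInr :=
    CategoryTheory.IsPushout.of_hasPushout _ _
  let _ : Algebra (S.residueField T.s) (X.residueField T.x) := φ₁.hom.toAlgebra
  let _ : Algebra (S.residueField T.s) (Y.residueField T.y) := φ₂.hom.toAlgebra
  let _ : Algebra (X.residueField T.x) T.tensor := T.tensorInl.hom.toAlgebra
  let _ : Algebra (Y.residueField T.y) T.tensor := T.tensorInr.hom.toAlgebra
  let _ : Algebra (S.residueField T.s) T.tensor := (φ₁ ≫ T.tensorInl).hom.toAlgebra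
  have : IsScalarTower (S.residueField T.s) (X.residueField T.x) T.tensor :=
    .of_algebraMap_eq fun _ => rfl
  have : IsScalarTower (S.residueField T.s) (Y.residueField T.y) T.tensor :=
    .of_algebraMap_eq fun a => congrArg (fun φ => φ.hom a) hpo.w
  have hpo' : Algebra.IsPushout (S.residueField T.s) (X.residueField T.x) (Y.residueField T.y)
    T.tensor := CommRingCat.isPushout_iff_isPushout.mp hpo
  have h1 : T.tensorInr ≫ ofPointTensor t = (pullback.snd f g).residueFieldMap t :=
    pushout.inr_desc _ _ _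
  have key := CycA.TensorTrdeg.trd_le φ₂.hom φ₁.hom (T.tensorInr ≫ ofPointTensor t).hom
    (T.tensorInl ≫ ofPointTensor t).hom
    (by
      have h2 : φ₂ ≫ T.tensorInr ≫ ofPointTensor t = φ₁ ≫ T.tensorInl ≫ ofPointTensor t := by
        rw [← Category.assoc, ← hpo.w, Category.assoc]
      exact congrArg CommRingCat.Hom.hom h2)
    (by
      intro Sb hS1 hS2 z
      obtain ⟨a, b, hb, hab⟩ := hfrac z
      have hmem : ∀ c : T.tensor, (ofPointTensor t).hom c ∈ Sb := by
        intro c
        refine hpo'.out.inductionOn c _ ?_ ?_ ?_ ?_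
        · rw [map_zero]; exact Sb.zero_mem
        · intro m
          exact hS1 m
        · intro s n hn
          rw [Algebra.smul_def, map_mul]
          exact Sb.mul_mem (hS2 s) hn
        · intro n₁ n₂ h₁ h₂
          rw [map_add]
          exact Sb.add_mem h₁ h₂
      exact ⟨_, hmem a, _, hmem b, hb, hab⟩)
  rw [h1] at key
  refine key.trans (le_of_eq ?_)
  change trd φ₁.hom = _
  rw [CommRingCat.hom_comp]
  exact trd_comp_surjective' _ _
    (ConcreteCategory.bijective_of_isIso (S.residueFieldCongr T.hx).inv).2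

/-- Every point of `X ×_S Y` is the specialization of a maximal one with the same projections. -/
theorem exists_maximal_pair [LocallyOfFiniteType f] (t₀ : ↥(pullback f g)) :
    ∃ t : ↥(pullback f g), t ⤳ t₀ ∧ pullback.fst f g t = pullback.fst f g t₀ ∧
      pullback.snd f g t = pullback.snd f g t₀ ∧
      ∀ t' : ↥(pullback f g), pullback.fst f g t' = pullback.fst f g t →
        pullback.snd f g t' = pullback.snd f g t → t' ⤳ t → t' = t := by
  let N : Set ℕ := {n | ∃ t : ↥(pullback f g), t ⤳ t₀ ∧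
    pullback.fst f g t = pullback.fst f g t₀ ∧ pullback.snd f g t = pullback.snd f g t₀ ∧
    rtd (pullback.snd f g) t = n}
  have hne : N.Nonempty := by
    obtain ⟨n, hn⟩ := Cardinal.lt_aleph0.mp (rtd_lt_aleph0 (pullback.snd f g) t₀)
    exact ⟨n, t₀, specializes_rfl, rfl, rfl, hn⟩
  have hbdd : BddAbove N := by
    obtain ⟨m, hm⟩ := Cardinal.lt_aleph0.mp (rtd_lt_aleph0 f (pullback.fst f g t₀))
    refine ⟨m, ?_⟩
    rintro n ⟨t, -, ht, -, hn⟩
    have := rtd_snd_le t
    rw [hn, ht, hm] at this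
    exact_mod_cast this
  obtain ⟨t, h1, h2, h3, h4⟩ := Nat.sSup_mem hne hbdd
  refine ⟨t, h1, h2, h3, ?_⟩
  intro t' h2' h3' hle
  by_contra hcon
  have hlt := rtd_lt_of_specializes (pullback.snd f g) hle hcon h3'
  obtain ⟨n, hn⟩ := Cardinal.lt_aleph0.mp (rtd_lt_aleph0 (pullback.snd f g) t')
  have hmem : n ∈ N := ⟨t', hle.trans h1, h2'.trans h2, h3'.trans h3, hn⟩
  have hle' := le_csSup hbdd hmem
  rw [h4, hn] at hlt
  have hlt' : sSup N < n := by exact_mod_cast hlt
  omega

end rtd

/-- If `z = p t` lies in the closure of `E ∩ f ⁻¹ {b a}`, `t` in the base change of `X` lies over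
`a`, then `t` lies in the closure of `p ⁻¹ E ∩ q ⁻¹ {a}`. -/
theorem mem_closure_pullback {X S B : Scheme.{u}} (f : X ⟶ S) (b : B ⟶ S) (E : Set X) (a : B)
    (t : ↥(pullback f b)) (ht : pullback.snd f b t = a)
    (hz : pullback.fst f b t ∈ closure (E ∩ f ⁻¹' {b a})) :
    t ∈ closure (pullback.fst f b ⁻¹' E ∩ pullback.snd f b ⁻¹' {a}) := by
  subst ht
  have hb := isPullback_fiberToSpecResidueField_of_isPullback (IsPullback.of_hasPullback f b)
    (pullback.snd f b t)
  set s := pullback.snd f b t with hs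
  let m : (pullback.snd f b).fiber s ⟶ f.fiber (b s) :=
    pullback.map _ _ _ _ (pullback.fst f b) (Spec.map (b.residueFieldMap s)) b
      (IsPullback.of_hasPullback f b).w.symm (by simp)
  have hmι : m ≫ f.fiberι (b s) = (pullback.snd f b).fiberι s ≫ pullback.fst f b :=
    pullback.lift_fst _ _ _
  have hmo : UniversallyOpen m :=
    MorphismProperty.of_isPullback (P := @UniversallyOpen) hb.flip inferInstance
  have hp' : ((pullback.snd f b).fiberι s) ((pullback.snd f b).asFiber t) = t :=
    (pullback.snd f b).fiberι_asFiber t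
  rw [mem_closure_iff]
  intro W hW htW
  have hW' : IsOpen (((pullback.snd f b).fiberι s) ⁻¹' W) :=
    hW.preimage ((pullback.snd f b).fiberι s).continuous
  obtain ⟨U, hU, hUW⟩ := (f.fiberι (b s)).isEmbedding.isInducing.isOpen_iff.mp
    (m.isOpenMap _ hW')
  have hmem : pullback.fst f b t ∈ U := by
    have h1 : m ((pullback.snd f b).asFiber t) ∈ m '' (((pullback.snd f b).fiberι s) ⁻¹' W) :=
      ⟨_, by change ((pullback.snd f b).fiberι s) ((pullback.snd f b).asFiber t) ∈ W; rwa [hp'], rfl⟩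
    rw [← hUW] at h1
    change f.fiberι (b s) (m ((pullback.snd f b).asFiber t)) ∈ U at h1
    rwa [← Scheme.Hom.comp_apply, hmι, Scheme.Hom.comp_apply, hp'] at h1
  obtain ⟨e, heU, heE, hes⟩ := mem_closure_iff.mp hz U hU hmem
  have her : e ∈ Set.range (f.fiberι (b s)) := by
    rw [Scheme.Hom.range_fiberι]
    exact hes
  obtain ⟨e', he'⟩ := her
  have h2 : e' ∈ m '' (((pullback.snd f b).fiberι s) ⁻¹' W) := by
    rw [← hUW]
    change f.fiberι (b s) e' ∈ U
    rwa [he']
  obtain ⟨w, hw, hwe⟩ := h2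
  refine ⟨(pullback.snd f b).fiberι s w, hw, ?_, K125.ValDim.apply_fiberι _ _ _⟩
  change pullback.fst f b ((pullback.snd f b).fiberι s w) ∈ E
  rw [← Scheme.Hom.comp_apply, ← hmι, Scheme.Hom.comp_apply, hwe, he']
  exact heE

/-- The fibre of a closed subscheme. -/
theorem topologicalKrullDim_closed_fiber {X Y W : Scheme.{u}} (f : X ⟶ Y) (i : W ⟶ X)
    [IsPreimmersion i] (y : Y) :
    topologicalKrullDim ↥(f ⁻¹' {y} ∩ Set.range i) = topologicalKrullDim ↥((i ≫ f).fiber y) := by
  let j : ↥((i ≫ f).fiber y) → X := fun t => i ((i ≫ f).fiberι y t)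
  have hj : IsEmbedding j :=
    (i.isEmbedding).comp ((i ≫ f).fiberι y).isEmbedding
  have hr : Set.range j = f ⁻¹' {y} ∩ Set.range i := by
    ext x
    constructor
    · rintro ⟨t, rfl⟩
      exact ⟨K125.ValDim.apply_fiberι (i ≫ f) y t, ⟨_, rfl⟩⟩
    · rintro ⟨hx, w, rfl⟩
      have h1 : w ∈ Set.range ((i ≫ f).fiberι y) := by
        rw [Scheme.Hom.range_fiberι]
        exact hx
      obtain ⟨t, ht⟩ := h1
      exact ⟨t, congrArg i ht⟩
  rw [← hr]
  exact (IsHomeomorph.topologicalKrullDim_eq _ hj.toHomeomorph.isHomeomorph).symm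

/-- The reduced closed subscheme with a given closed underlying set. -/
theorem exists_closedImmersion {X : Scheme.{u}} (C : Set X) (hC : IsClosed C) :
    ∃ (W : Scheme.{u}) (i : W ⟶ X), IsClosedImmersion i ∧ Set.range i = C := by
  let I := Scheme.IdealSheafData.vanishingIdeal (⟨C, hC⟩ : TopologicalSpace.Closeds X)
  refine ⟨I.subscheme, I.subschemeι, inferInstance, ?_⟩
  rw [Scheme.IdealSheafData.range_subschemeι]
  simp [I]

theorem exists_rtd_le {X S : Scheme.{u}} (f : X ⟶ S) [LocallyOfFiniteType f] {ι : Type u}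
    (Y : ι → Scheme.{u}) (g : ∀ i, Y i ⟶ S) [∀ i, UniversallyOpen (g i)] (v : ∀ i, Y i ⟶ X)
    (hv : ∀ i, v i ≫ f = g i) (s s' : S) (hs : s' ⤳ s) (z : X)
    (hz : z ∈ closure ((⋃ i, Set.range (v i)) ∩ f ⁻¹' {s})) (hzs : f z = s) :
    ∃ z' : X, z' ∈ closure ((⋃ i, Set.range (v i)) ∩ f ⁻¹' {s'}) ∧ f z' = s' ∧
      rtd f z ≤ rtd f z' := by
  obtain ⟨A, _, _, _, b, hb1, hb2⟩ := K125.ValScheme.exists_valuationRing_of_specializes hs
  set E := ⋃ i, Set.range (v i) with hE
  have hcomm : ∀ w : ↥(pullback f b), f (pullback.fst f b w) = b (pullback.snd f b w) := by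
    intro w
    rw [← Scheme.Hom.comp_apply, pullback.condition, Scheme.Hom.comp_apply]
  obtain ⟨t₀, ht1, ht2⟩ := Scheme.Pullback.exists_preimage_pullback (f := f) (g := b) z
    (closedPoint A) (hzs.trans hb1.symm)
  obtain ⟨t, ht, htp, htq, htmax⟩ := exists_maximal_pair (f := f) (g := b) t₀
  have hr : rtd (pullback.snd f b) t = rtd f z := by rw [rtd_snd_eq t htmax, htp, ht1]
  have htc : t ∈ closure (pullback.fst f b ⁻¹' E ∩ pullback.snd f b ⁻¹' {closedPoint A}) :=
    mem_closure_pullback f b E (closedPoint A) t (htq.trans ht2) (by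
      rw [htp, ht1, hb1]; exact hz)
  have hsub : pullback.fst f b ⁻¹' E ∩ pullback.snd f b ⁻¹' {closedPoint A} ⊆
      closure (pullback.fst f b ⁻¹' E ∩ pullback.snd f b ⁻¹' {(⊥ : PrimeSpectrum A)}) := by
    rintro e ⟨heE, he0⟩
    obtain ⟨_, ⟨i, rfl⟩, y, hy⟩ := heE
    obtain ⟨w, hw1, hw2⟩ := Scheme.Pullback.exists_preimage_pullback (f := v i)
      (g := pullback.fst f b) y e hy
    have hpb : IsPullback (pullback.fst (v i) (pullback.fst f b))
        (pullback.snd (v i) (pullback.fst f b) ≫ pullback.snd f b) (g i) b := by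
      rw [← hv i]
      exact ((IsPullback.of_hasPullback (v i) (pullback.fst f b)).flip.paste_horiz
        (IsPullback.of_hasPullback f b).flip).flip
    have hopen : UniversallyOpen (pullback.snd (v i) (pullback.fst f b) ≫ pullback.snd f b) :=
      MorphismProperty.of_isPullback (P := @UniversallyOpen) hpb inferInstance
    have hgen := Ega43.OpenUniv.generalizingMap_of_isOpenMap _
      (pullback.snd (v i) (pullback.fst f b) ≫ pullback.snd f b).isOpenMap
    obtain ⟨w', hw', hw'2⟩ := @hgen w (⊥ : PrimeSpectrum A)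
      ((PrimeSpectrum.le_iff_specializes (R := A) ⊥ _).mp bot_le)
    have h1 : pullback.snd (v i) (pullback.fst f b) w' ⤳ e := by
      have := hw'.map (pullback.snd (v i) (pullback.fst f b)).continuous
      rwa [hw2] at this
    refine closure_mono ?_ (specializes_iff_mem_closure.mp h1)
    rw [Set.singleton_subset_iff]
    refine ⟨?_, hw'2⟩
    change pullback.fst f b _ ∈ E
    rw [← Scheme.Hom.comp_apply, ← pullback.condition, Scheme.Hom.comp_apply]
    exact Set.mem_iUnion.mpr ⟨i, _, rfl⟩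
  have htc' := closure_minimal hsub isClosed_closure htc
  obtain ⟨C, i, hi, hir⟩ := exists_closedImmersion
    (closure (pullback.fst f b ⁻¹' E ∩ pullback.snd f b ⁻¹' {(⊥ : PrimeSpectrum A)}))
    isClosed_closure
  obtain ⟨c, hc⟩ : t ∈ Set.range i := hir ▸ htc'
  obtain ⟨ζ', hζ1, hζ2, -⟩ := K125.LocalDims.exists_generization (i ≫ pullback.snd f b) c
    (⊥ : PrimeSpectrum A) 0 (by
    intro U hcU
    obtain ⟨U', hU', hUU'⟩ := i.isEmbedding.isInducing.isOpen_iff.mp U.2
    have hcU' : t ∈ U' := by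
      have : c ∈ i ⁻¹' U' := by rw [hUU']; exact hcU
      rwa [← hc]
    obtain ⟨w, hwU', hwE⟩ := mem_closure_iff.mp htc' U' hU' hcU'
    obtain ⟨c', hc'⟩ : w ∈ Set.range i := hir ▸ subset_closure hwE
    refine ⟨c', ?_, ?_, ?_⟩
    · have : c' ∈ i ⁻¹' U' := by
        change i c' ∈ U'
        rwa [hc']
      rwa [hUU'] at this
    · rw [Scheme.Hom.comp_apply, hc']
      exact hwE.2
    · simp)
  rw [Scheme.Hom.comp_apply] at hζ2
  refine ⟨pullback.fst f b (i ζ'), ?_, ?_, ?_⟩
  · have h1 : i ζ' ∈ closure (pullback.fst f b ⁻¹' E ∩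
        pullback.snd f b ⁻¹' {(⊥ : PrimeSpectrum A)}) := hir ▸ ⟨ζ', rfl⟩
    refine map_mem_closure (pullback.fst f b).continuous h1 ?_
    rintro w ⟨hw1, hw2⟩
    refine ⟨hw1, ?_⟩
    change f (pullback.fst f b w) = s'
    rw [hcomm, ← hb2]
    exact congrArg b hw2
  · rw [hcomm, hζ2]
    exact hb2
  · rw [← hr]
    refine (K125.ValRtd.rtd_le_of_specializes _ ?_).trans (rtd_snd_le _)
    have := hζ1.map i.continuous
    rwa [hc] at this

end K974.ClosureFib
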