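import Groth.Agent.EGA43.K125.ValScheme
import Groth.Agent.EGA43.K125.PolyUnibranchSch
import Groth.Agent.EGA43.K125.UnibranchQF
import Groth.Agent.Ega4fib.H174.EquidimAff
import Groth.Agent.S9812
import Groth.Agent.S3404
import Groth.Agent.Ega43.FPOfComp
import Mathlib.Algebra.GCDMonoid.IntegrallyClosed

/-!
# Quasi-finite morphisms to affine space over the base are universally open where the source is

Let `f : X → S` be locally of finite presentation, `u : X → 𝔸ⁿ_S` a locally quasi-finite
`S`-morphism, `z ⤳ x` in one fibre of `f` with `rtd f z = n`. If `f` is universally open at `z`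
then `u` is universally open at `x`.
-/

set_option autoImplicit false
universe u

open CategoryTheory AlgebraicGeometry IsLocalRing Limits

namespace K974.QFOpen

open Groth.Agent.CycB.RelDim Groth.Agent EGA43

/-- Generizations in a fibre lift to base changes. -/
theorem exists_lift_generization {X S B : Scheme.{u}} (f : X ⟶ S) (b : B ⟶ S)
    (t : ↥(pullback f b)) (z : X) (hz : z ⤳ pullback.fst f b t)
    (hfz : f z = f (pullback.fst f b t)) :
    ∃ w : ↥(pullback f b), w ⤳ t ∧ pullback.snd f b w = pullback.snd f b t ∧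
      pullback.fst f b w = z := by
  have hb := isPullback_fiberToSpecResidueField_of_isPullback (IsPullback.of_hasPullback f b)
    (pullback.snd f b t)
  set s := pullback.snd f b t with hs
  let m : (pullback.snd f b).fiber s ⟶ f.fiber (b s) :=
    pullback.map _ _ _ _ (pullback.fst f b) (Spec.map (b.residueFieldMap s)) b
      (IsPullback.of_hasPullback f b).w.symm (by simp)
  have hmι : m ≫ f.fiberι (b s) = (pullback.snd f b).fiberι s ≫ pullback.fst f b :=
    pullback.lift_fst _ _ _
  have hmo : Flat m := by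
    have : Flat (Spec.map (b.residueFieldMap s)) := by
      rw [Flat.SpecMap_iff]
      let := (b.residueFieldMap s).hom.toAlgebra
      change Module.Flat (S.residueField (b s)) (B.residueField s)
      infer_instance
    exact MorphismProperty.of_isPullback (P := @Flat) hb.flip this
  have hp' : ((pullback.snd f b).fiberι s) ((pullback.snd f b).asFiber t) = t :=
    (pullback.snd f b).fiberι_asFiber t
  have hbs : b s = f (pullback.fst f b t) := by
    rw [hs, ← Scheme.Hom.comp_apply, ← pullback.condition, Scheme.Hom.comp_apply]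
  obtain ⟨z₀, hz₀⟩ : z ∈ Set.range (f.fiberι (b s)) := by
    rw [Scheme.Hom.range_fiberι]
    change f z = b s
    rw [hfz, hbs]
  have hbp : f.fiberι (b s) (m ((pullback.snd f b).asFiber t)) = pullback.fst f b t := by
    rw [← Scheme.Hom.comp_apply, hmι, Scheme.Hom.comp_apply, hp']
  have hz₀' : z₀ ⤳ m ((pullback.snd f b).asFiber t) := by
    refine (f.fiberι (b s)).isEmbedding.isInducing.specializes_iff.mp ?_
    rw [hz₀, hbp]
    exact hz
  obtain ⟨w, hw, hwz⟩ := Flat.generalizingMap m hz₀'
  refine ⟨(pullback.snd f b).fiberι s w, ?_, ?_, ?_⟩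
  · have := hw.map ((pullback.snd f b).fiberι s).continuous
    rwa [hp'] at this
  · have : (pullback.snd f b).fiberι s w ∈ Set.range ((pullback.snd f b).fiberι s) := ⟨w, rfl⟩
    rw [Scheme.Hom.range_fiberι] at this
    exact this
  · rw [← Scheme.Hom.comp_apply, ← hmι, Scheme.Hom.comp_apply, hwz, hz₀]

/-- The local rings of the spectrum of a valuation ring are geometrically unibranch. -/
theorem isGeomUnibranch_valuationRing (R : Type u) [CommRing R] [IsDomain R] [ValuationRing R]
    (s : ↥(Spec (CommRingCat.of R))) :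
    CAlg2.IsGeomUnibranch ((Spec (CommRingCat.of R)).presheaf.stalk s) := by
  have h0 : IsIntegrallyClosed R := by
    classical
    have : IsBezout R := inferInstance
    let _ : GCDMonoid R := IsBezout.toGCDDomain R
    infer_instance
  have h1 : IsIntegrallyClosed ((Spec (CommRingCat.of R)).presheaf.stalk s) := by
    let p : PrimeSpectrum R := s
    let _ : Algebra R ((Spec (CommRingCat.of R)).presheaf.stalk s) :=
      StructureSheaf.stalkAlgebra R p
    have h2 : IsLocalization.AtPrime ((Spec (CommRingCat.of R)).presheaf.stalk s) p.asIdeal :=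
      StructureSheaf.IsLocalization.to_stalk R p
    exact isIntegrallyClosed_of_isLocalization (R := R) _ p.asIdeal.primeCompl
      (Ideal.primeCompl_le_nonZeroDivisors _)
  exact Groth.Agent.S9812.result _

/-- Generizations lift along a quasi-finite morphism to affine space over a valuation ring, at
specializations of a point of the generic fibre of maximal residual transcendence degree. -/
theorem exists_specializes {A : Type u} [CommRing A] [IsDomain A] [ValuationRing A]
    {P : Scheme.{u}} (n : ℕ) (v : P ⟶ 𝔸(ULift.{u} (Fin n); Spec (CommRingCat.of A)))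
    [LocallyOfFiniteType v] [LocallyQuasiFinite v] (x w : P) (hw : w ⤳ x)
    (hη : (v ≫ (𝔸(ULift.{u} (Fin n); Spec (CommRingCat.of A)) ↘ Spec (CommRingCat.of A))) w =
      (⊥ : PrimeSpectrum A))
    (hr : (n : Cardinal.{u}) ≤
      rtd (v ≫ (𝔸(ULift.{u} (Fin n); Spec (CommRingCat.of A)) ↘ Spec (CommRingCat.of A))) w)
    (y : ↥𝔸(ULift.{u} (Fin n); Spec (CommRingCat.of A))) (hy : y ⤳ v x) :
    ∃ x' : P, x' ⤳ x ∧ v x' = y := by
  have h1 : rtd (𝔸(ULift.{u} (Fin n); Spec (CommRingCat.of A)) ↘ Spec (CommRingCat.of A)) (v w) =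
      n := by
    apply le_antisymm (Ega4fib.H174.EquidimAff.rtd_affineSpace_le n _)
    rwa [rtd_comp, Ega4fib.H174.EquidimAff.rtd_eq_zero_of_locallyQuasiFinite v w, add_zero] at hr
  have h2 := Ega4fib.H174.EquidimAff.maximal_of_rtd_affineSpace n (v w) h1 (by
    intro y hy
    rw [Scheme.Hom.comp_apply] at hη
    rw [hη] at hy ⊢
    have key : ∀ c : PrimeSpectrum A, c ≤ ⊥ → c = ⊥ := fun c hc => le_bot_iff.mp hc
    exact key y ((PrimeSpectrum.le_iff_specializes (R := A) y ⊥).mpr hy))
  have h3 : CAlg2.IsGeomUnibranch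
      ((𝔸(ULift.{u} (Fin n); Spec (CommRingCat.of A))).presheaf.stalk (v x)) :=
    K125.PolyUnibranchSch.isGeomUnibranch_affineSpace _ _ (isGeomUnibranch_valuationRing A _)
  obtain ⟨x', -, hx', hx'y⟩ := K125.UnibranchQF.exists_specializes_of_isUnibranch v x
    (v.quasiFiniteAt x) h3.1 w hw h2 y hy
  exact ⟨x', hx', hx'y⟩

theorem isUnivOpenAt {X S : Scheme.{u}} (f : X ⟶ S) [LocallyOfFinitePresentation f] (n : ℕ)
    (u : X ⟶ 𝔸(ULift.{u} (Fin n); S)) [LocallyQuasiFinite u]
    (hu : u ≫ (𝔸(ULift.{u} (Fin n); S) ↘ S) = f) (x z : X) (hzx : z ⤳ x) (hfz : f z = f x)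
    (hmax : ∀ z' : X, z' ⤳ z → f z' = f z → z' = z) (hr : rtd f z = n)
    (hopen : IsUnivOpenAt f z) : IsUnivOpenAt u x := by
  have hulfp : LocallyOfFinitePresentation u := by
    have : LocallyOfFinitePresentation (u ≫ (𝔸(ULift.{u} (Fin n); S) ↘ S)) := by
      rw [hu]; infer_instance
    exact Ega43.FPOfComp.locallyOfFinitePresentation_of_comp u (𝔸(ULift.{u} (Fin n); S) ↘ S)
  intro T t p hp
  change IsOpenAt (pullback.snd u t) p
  rw [(S3404.result (pullback.snd u t) p).2 inferInstance]
  intro y' hy'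
  obtain ⟨A, _, _, _, g, hg1, hg2⟩ := K125.ValScheme.exists_valuationRing_of_specializes hy'
  -- the base change `R` of `X ×_𝔸 T` to `Spec A`
  obtain ⟨w, hw1, hw2⟩ := Scheme.Pullback.exists_preimage_pullback
    (f := pullback.snd u t) (g := g) p (closedPoint A) hg1.symm
  let b : Spec (CommRingCat.of A) ⟶ S := g ≫ t ≫ (𝔸(ULift.{u} (Fin n); S) ↘ S)
  let q := pullback.snd f b
  let p₁ := pullback.fst f b
  have hα := AffineSpace.isPullback_map (n := ULift.{u} (Fin n)) b
  let v : pullback f b ⟶ 𝔸(ULift.{u} (Fin n); Spec (CommRingCat.of A)) :=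
    hα.lift (p₁ ≫ u) q (by
      rw [Category.assoc, hu]
      exact pullback.condition)
  have hv1 : v ≫ AffineSpace.map _ b = p₁ ≫ u := hα.lift_fst _ _ _
  have hv2 : v ≫ (𝔸(ULift.{u} (Fin n); Spec (CommRingCat.of A)) ↘ Spec (CommRingCat.of A)) = q :=
    hα.lift_snd _ _ _
  have hsq : IsPullback p₁ v u (AffineSpace.map _ b) := by
    refine IsPullback.of_bot ?_ hv1.symm hα
    rw [hv2, hu]
    exact IsPullback.of_hasPullback f b
  have hvq : LocallyQuasiFinite v :=
    MorphismProperty.of_isPullback (P := @LocallyQuasiFinite) hsq inferInstance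
  have hvf : LocallyOfFiniteType v :=
    MorphismProperty.of_isPullback (P := @LocallyOfFiniteType) hsq inferInstance
  let σ : Spec (CommRingCat.of A) ⟶ 𝔸(ULift.{u} (Fin n); Spec (CommRingCat.of A)) :=
    hα.lift (g ≫ t) (𝟙 _) (by simp [b])
  have hσ1 : σ ≫ AffineSpace.map _ b = g ≫ t := hα.lift_fst _ _ _
  have hσ2 : σ ≫ (𝔸(ULift.{u} (Fin n); Spec (CommRingCat.of A)) ↘ Spec (CommRingCat.of A)) =
    𝟙 _ := hα.lift_snd _ _ _
  have hσ3 : IsClosedImmersion σ := by
    have : IsClosedImmersion (σ ≫
        (𝔸(ULift.{u} (Fin n); Spec (CommRingCat.of A)) ↘ Spec (CommRingCat.of A))) := by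
      rw [hσ2]; infer_instance
    exact IsClosedImmersion.of_comp σ
      (𝔸(ULift.{u} (Fin n); Spec (CommRingCat.of A)) ↘ Spec (CommRingCat.of A))
  let j : pullback (pullback.snd u t) g ⟶ pullback f b :=
    pullback.lift (pullback.fst (pullback.snd u t) g ≫ pullback.fst u t)
      (pullback.snd (pullback.snd u t) g) (by
        rw [← hu, Category.assoc, pullback.condition_assoc, pullback.condition_assoc])
  have hj1 : j ≫ p₁ = pullback.fst (pullback.snd u t) g ≫ pullback.fst u t :=
    pullback.lift_fst _ _ _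
  have hj2 : j ≫ q = pullback.snd (pullback.snd u t) g := pullback.lift_snd _ _ _
  have hj : IsPullback j (pullback.snd (pullback.snd u t) g) v σ := by
    refine IsPullback.of_right (h₁₂ := p₁) (h₂₂ := AffineSpace.map _ b) (v₁₃ := u) ?_ ?_ hsq
    · rw [hj1, hσ1]
      exact ((IsPullback.of_hasPullback (pullback.snd u t) g).paste_horiz
        (IsPullback.of_hasPullback u t))
    · apply hα.hom_ext
      · rw [Category.assoc, hv1, ← Category.assoc, hj1, Category.assoc, pullback.condition,
          Category.assoc, hσ1, ← Category.assoc, pullback.condition, Category.assoc]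
      · rw [Category.assoc, hv2, hj2, Category.assoc, hσ2, Category.comp_id]
  have hjc : IsClosedImmersion j :=
    MorphismProperty.of_isPullback (P := @IsClosedImmersion) hj.flip hσ3
  have hx' : v (j w) = σ (closedPoint A) := by
    rw [← Scheme.Hom.comp_apply, hj.w, Scheme.Hom.comp_apply, hw2]
  have hx1 : p₁ (j w) = x := by
    rw [← Scheme.Hom.comp_apply, hj1, Scheme.Hom.comp_apply, hw1]
    exact hp
  obtain ⟨z₀, hz₀1, hz₀2, hz₀3⟩ := exists_lift_generization f b (j w) z
    (by change z ⤳ p₁ (j w); rwa [hx1]) (by change f z = f (p₁ (j w)); rwa [hx1])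
  obtain ⟨z₁, hz₁1, hz₁2, hz₁3⟩ := Ega43.OpenUniv.exists_maximal_in_fibre q z₀
  have hcomm : ∀ c : ↥(pullback f b), f (p₁ c) = b (q c) := by
    intro c
    have h1 : p₁ ≫ f = q ≫ b := pullback.condition
    rw [← Scheme.Hom.comp_apply, h1, Scheme.Hom.comp_apply]
  have hp₁z : p₁ z₁ = z := by
    apply hmax
    · have := hz₁1.map p₁.continuous
      rwa [show p₁ z₀ = z from hz₀3] at this
    · rw [hcomm, hz₁2, ← hcomm]
      exact congrArg f hz₀3
  have hr' : rtd q z₁ = n := by
    rw [← hr, ← hp₁z]
    exact rtd_snd_eq z₁ fun t' _ h2 h3 => hz₁3 t' h3 h2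
  have hop : IsOpenAt q z₁ := hopen _ b z₁ hp₁z
  obtain ⟨w₀, hw₀, hw₀η⟩ := (S3404.result q z₁).1 hop (⊥ : PrimeSpectrum A)
    ((PrimeSpectrum.le_iff_specializes (R := A) ⊥ _).mp bot_le)
  have hn : (n : Cardinal.{u}) ≤ rtd q w₀ := by
    rw [← hr']
    exact K125.ValRtd.rtd_le_of_specializes _ hw₀
  obtain ⟨x'', hx''1, hx''2⟩ := exists_specializes n v (j w) w₀
    (hw₀.trans (hz₁1.trans hz₀1)) (by rw [hv2]; exact hw₀η) (by rw [hv2]; exact hn)
    (σ (⊥ : PrimeSpectrum A)) (by
      rw [hx']
      exact ((PrimeSpectrum.le_iff_specializes (R := A) ⊥ _).mp bot_le).map σ.continuous)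
  obtain ⟨w'', hw''1, hw''2⟩ := Scheme.exists_preimage_of_isPullback hj x''
    (⊥ : PrimeSpectrum A) hx''2
  have hww : w'' ⤳ w := by
    refine j.isEmbedding.isInducing.specializes_iff.mp ?_
    rwa [hw''1]
  refine ⟨pullback.fst (pullback.snd u t) g w'', ?_, ?_⟩
  · have := hww.map (pullback.fst (pullback.snd u t) g).continuous
    rwa [hw1] at this
  · change pullback.snd u t (pullback.fst (pullback.snd u t) g w'') = y'
    rw [← Scheme.Hom.comp_apply, pullback.condition, Scheme.Hom.comp_apply, hw''2]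
    exact hg2

end K974.QFOpen
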